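import Groth.Agent.FlatMor67.WEReduced
import Mathlib.RingTheory.LocalRing.Basic
import Mathlib.RingTheory.Localization.AtPrime.Basic
import Mathlib.RingTheory.Nilpotent.Lemmas
import Mathlib.RingTheory.Flat.Stability

/-!
# Absolutely flat rings and maps between weakly étale algebras
-/

universe u

open TensorProduct

namespace Groth.Agent.WE24

variable {A : Type u} [CommRing A]

theorem vnr_of_all_flat (h : ∀ (M : Type u) [AddCommGroup M] [Module A M], Module.Flat A M) (x : A) :
    ∃ y, x * x * y = x := by
  haveI : Ideal.Pure (Ideal.span {x}) := h (A ⧸ Ideal.span {x})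
  obtain ⟨y, hy, hxy⟩ := Ideal.exists_eq_mul_of_pure (Ideal.mem_span_singleton_self x)
  obtain ⟨c, rfl⟩ := Ideal.mem_span_singleton'.mp hy
  exact ⟨c, by linear_combination -hxy⟩

theorem isField_localization_of_vnr (h : ∀ x : A, ∃ y, x * x * y = x) (p : Ideal A) [p.IsPrime] :
    IsField (Localization.AtPrime p) := by
  rw [IsLocalRing.isField_iff_maximalIdeal_eq, ← Localization.AtPrime.map_eq_maximalIdeal,
    Ideal.map_eq_bot_iff_le_ker]
  intro x hx
  obtain ⟨y, hy⟩ := h x
  rw [RingHom.mem_ker]
  refine (IsLocalization.map_eq_zero_iff p.primeCompl _ x).mpr ⟨⟨1 - x * y, fun hmem => ?_⟩, ?_⟩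
  · refine p.ne_top_iff_one.mp (Ideal.IsPrime.ne_top inferInstance) ?_
    have := p.add_mem hmem (p.mul_mem_right y hx)
    simpa using this
  · linear_combination -hy

theorem isMaximal_of_isField_localization
    (h : ∀ (p : Ideal A) [p.IsPrime], IsField (Localization.AtPrime p)) (q : Ideal A) [q.IsPrime] :
    q.IsMaximal := by
  obtain ⟨m, hm, hqm⟩ := Ideal.exists_le_maximal q (Ideal.IsPrime.ne_top inferInstance)
  suffices m ≤ q by rwa [le_antisymm hqm this]
  intro x hx
  have h0 : algebraMap A (Localization.AtPrime m) x = 0 := by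
    rw [← RingHom.mem_ker]
    refine (Ideal.map_eq_bot_iff_le_ker _).mp ?_ hx
    rw [Localization.AtPrime.map_eq_maximalIdeal, ← IsLocalRing.isField_iff_maximalIdeal_eq]
    exact h m
  obtain ⟨⟨s, hs⟩, hsx⟩ := (IsLocalization.map_eq_zero_iff m.primeCompl _ x).mp h0
  exact ((Ideal.IsPrime.mem_or_mem inferInstance
    (show s * x ∈ q by rw [show s * x = 0 from hsx]; exact q.zero_mem))).resolve_left
      fun hsq => hs (hqm hsq)

theorem isReduced_of_isField_localization
    (h : ∀ (p : Ideal A) [p.IsPrime], IsField (Localization.AtPrime p)) : IsReduced A := by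
  refine ⟨fun x hx => ?_⟩
  by_contra hx0
  let ann := LinearMap.ker (LinearMap.toSpanSingleton A A x)
  have hne : ann ≠ ⊤ := fun ht => hx0 (by
    have h1 : (1 : A) ∈ ann := ht ▸ Submodule.mem_top
    simpa [ann] using h1)
  obtain ⟨m, hm, hle⟩ := Ideal.exists_le_maximal ann hne
  letI := (h m).toField
  have h0 : algebraMap A (Localization.AtPrime m) x = 0 :=
    (hx.map (algebraMap A (Localization.AtPrime m))).eq_zero
  obtain ⟨⟨s, hs⟩, hsx⟩ := (IsLocalization.map_eq_zero_iff m.primeCompl _ x).mp h0
  exact hs (hle (show s ∈ ann by simpa [ann] using hsx))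

theorem vnr_of_reduced_of_isMaximal (hr : IsReduced A) (hmax : ∀ p : Ideal A, p.IsPrime → p.IsMaximal)
    (x : A) : ∃ y, x * x * y = x := by
  let T : Ideal A := Submodule.comap (LinearMap.mulLeft A x) (Ideal.span {x * x})
  suffices T = ⊤ by
    have h1 : (1 : A) ∈ T := this ▸ Submodule.mem_top
    obtain ⟨y, hy⟩ := Ideal.mem_span_singleton'.mp (show x * 1 ∈ Ideal.span {x * x} from h1)
    exact ⟨y, by rw [mul_comm]; simpa using hy⟩
  by_contra hne
  obtain ⟨m, hm, hle⟩ := Ideal.exists_le_maximal T hne
  by_cases hxm : x ∈ m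
  · -- some power of `x` is killed outside `m`
    let S : Submonoid A := Submonoid.powers x ⊔ m.primeCompl
    by_cases h0 : (0 : A) ∈ S
    · obtain ⟨_, ⟨n, rfl⟩, s, hs, hns⟩ := Submonoid.mem_sup.mp h0
      apply hs
      apply hle
      show x * s ∈ Ideal.span {x * x}
      have hz : (x * s) ^ (n + 1) = 0 := by
        rw [mul_pow, pow_succ x n, mul_assoc, pow_succ' s n, ← mul_assoc x, mul_comm x s,
          mul_assoc, ← mul_assoc, show x ^ n * s = 0 from hns, zero_mul]
      rw [hr.eq_zero _ ⟨n + 1, hz⟩]
      exact Ideal.zero_mem _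
    · obtain ⟨q, hq, -, hqS⟩ := Ideal.exists_le_prime_disjoint ⊥ S
        (Set.disjoint_left.mpr fun a ha haS => h0 (by simpa [(Ideal.mem_bot).mp ha] using haS))
      have hqm : q ≤ m := fun a ha => by
        by_contra ham
        exact Set.disjoint_left.mp hqS ha (Submonoid.mem_sup_right ham)
      have hxq : x ∉ q := fun h => Set.disjoint_left.mp hqS h
        (Submonoid.mem_sup_left (Submonoid.mem_powers x))
      rw [(hmax q hq).eq_of_le hm.ne_top hqm] at hxq
      exact hxq hxm
  · -- `x` lies in `T`, hence in `m`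
    exact hxm (hle (show x * x ∈ Ideal.span {x * x} from Ideal.mem_span_singleton_self _))

theorem absolutelyFlat_tfae (A : Type u) [CommRing A] :
    List.TFAE [∀ (M : Type u) [AddCommGroup M] [Module A M], Module.Flat A M,
      IsReduced A ∧ ∀ p : Ideal A, p.IsPrime → p.IsMaximal,
      ∀ (p : Ideal A) [p.IsPrime], IsField (Localization.AtPrime p)] := by
  tfae_have 1 → 3 := fun h p _ => isField_localization_of_vnr (vnr_of_all_flat h) p
  tfae_have 3 → 2 := fun h => ⟨isReduced_of_isField_localization h, fun p hp =>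
    haveI := hp; isMaximal_of_isField_localization h p⟩
  tfae_have 2 → 1 := fun h M _ _ =>
    FlatMor67.flat_of_vonNeumannRegular (vnr_of_reduced_of_isMaximal h.1 h.2) M
  tfae_finish

/-- Flatness descends along surjections of rings. -/
theorem flat_of_surjective {R R' M : Type u} [CommRing R] [CommRing R'] [Algebra R R']
    (h : Function.Surjective (algebraMap R R')) [AddCommGroup M] [Module R M] [Module R' M]
    [IsScalarTower R R' M] [Module.Flat R M] : Module.Flat R' M := by
  rw [Module.Flat.iff_rTensor_injective']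
  intro I
  let c := fun (N : Type u) (_ : AddCommGroup N) (_ : Module R N) (_ : Module R' N)
    (_ : IsScalarTower R R' N) => TensorProduct.mapOfCompatibleSMul R' R R N M
  have hinj := Module.Flat.rTensor_preserves_injective_linearMap (M := M)
    (I.subtype.restrictScalars R) I.injective_subtype
  have hbij : Function.Injective (TensorProduct.mapOfCompatibleSMul R' R R R' M) := by
    haveI : TensorProduct.CompatibleSMul R R' R' M := ⟨fun r n m => by
      obtain ⟨r, rfl⟩ := h r
      rw [algebraMap_smul, algebraMap_smul, TensorProduct.smul_tmul]⟩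
    exact (TensorProduct.equivOfCompatibleSMul R' R R R' M).injective
  rw [← LinearMap.ker_eq_bot, LinearMap.ker_eq_bot']
  intro z hz
  obtain ⟨w, rfl⟩ := TensorProduct.mapOfCompatibleSMul_surjective R' R R I M z
  have hsq : ∀ w, TensorProduct.mapOfCompatibleSMul R' R R R' M
      ((I.subtype.restrictScalars R).rTensor M w) =
        I.subtype.rTensor M (TensorProduct.mapOfCompatibleSMul R' R R I M w) := by
    intro w
    induction w using TensorProduct.induction_on with
    | zero => simp
    | tmul n m => simp
    | add a b ha hb => simp only [map_add, ha, hb]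
  have : w = 0 := hinj (by
    rw [map_zero]
    apply hbij
    rw [map_zero, hsq, hz])
  rw [this, map_zero]

theorem flat_of_comp_surjective {R R' S : Type u} [CommRing R] [CommRing R'] [CommRing S]
    (f : R →+* R') (hf : Function.Surjective f) (g : R' →+* S) (h : (g.comp f).Flat) : g.Flat := by
  algebraize [f, g, g.comp f]
  exact flat_of_surjective (R := R) hf

theorem weaklyEtale_of_algHom (A B C : Type u) [CommRing A] [CommRing B] [CommRing C]
    [Algebra A B] [Algebra A C] [Algebra B C] [IsScalarTower A B C] [Algebra.WeaklyEtale A B]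
    [Algebra.WeaklyEtale A C] : Algebra.WeaklyEtale B C := by
  have hflat : Module.Flat B C :=
    FlatMor67.flat_of_flat_lmul' (Algebra.WeaklyEtale.flat_lmul' A B) C
  refine { flat := hflat, flat_lmul' := ?_ }
  let π : C ⊗[A] C →ₐ[A] C ⊗[B] C :=
    (Algebra.TensorProduct.mapOfCompatibleSMul B A A C C)
  let μB : C ⊗[B] C →ₐ[B] C := Algebra.TensorProduct.lmul' B
  let μA : C ⊗[A] C →ₐ[A] C := Algebra.TensorProduct.lmul' A
  have hμ : μB.toRingHom.comp π.toRingHom = μA.toRingHom := RingHom.ext fun z => by
    induction z using TensorProduct.induction_on with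
    | zero => simp
    | tmul x y => simp [μA, μB, π]
    | add a b ha hb => simp only [map_add, ha, hb]
  exact flat_of_comp_surjective π.toRingHom (TensorProduct.mapOfCompatibleSMul_surjective B A A C C)
    μB.toRingHom (by rw [hμ]; exact Algebra.WeaklyEtale.flat_lmul' A C)

end Groth.Agent.WE24
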