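import Mathlib
import Groth.Prelude.Def_EtAlgD
import Groth.Agent.FlatCrit65.WESep
import Groth.Agent.WE24.AbsFlat

/-!
# Weakly étale algebras over a field

`weaklyEtale_iff_forall_isSeparable`: an algebra over a field is weakly étale iff each of its
elements is separable; consequently the maximal weakly étale subalgebra is the set of separable
elements.
-/

universe u

open TensorProduct Polynomial

namespace Groth.Agent.WE24

variable {K : Type u} [Field K] {S : Type u} [CommRing S] [Algebra K S]

lemma formallyUnramified_of_forall_isSeparable (h : ∀ x : S, IsSeparable K x) :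
    Algebra.FormallyUnramified K S := by
  refine ⟨?_⟩
  rw [← Submodule.subsingleton_iff S, ← subsingleton_iff_bot_eq_top, eq_comm, eq_bot_iff,
    ← KaehlerDifferential.span_range_derivation K S, Submodule.span_le]
  rintro _ ⟨x, rfl⟩
  obtain ⟨a, b, hab⟩ := h x
  have h1 : aeval x b * aeval x (derivative (minpoly K x)) = 1 := by
    have := congrArg (aeval x) hab
    simpa [minpoly.aeval] using this
  have h2 : aeval x (derivative (minpoly K x)) • KaehlerDifferential.D K S x = 0 := by
    rw [← Derivation.map_aeval, minpoly.aeval, map_zero]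
  rw [SetLike.mem_coe, Submodule.mem_bot,
    ← one_smul S (KaehlerDifferential.D K S x), ← h1, mul_smul, h2, smul_zero]

lemma etale_of_forall_isSeparable [Algebra.FiniteType K S] (h : ∀ x : S, IsSeparable K x) :
    Algebra.Etale K S := by
  have := formallyUnramified_of_forall_isSeparable h
  have : Algebra.FormallyEtale K S := Algebra.FormallyEtale.of_formallyUnramified_of_field K S
  exact ⟨this, Algebra.FinitePresentation.of_finiteType.mp inferInstance⟩

lemma formallyUnramified_adjoin (s : Set S) (hs : ∀ x ∈ s, IsSeparable K x) :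
    Algebra.FormallyUnramified K (Algebra.adjoin K s) := by
  let A := Algebra.adjoin K s
  have hgen : ∀ a : A, KaehlerDifferential.D K A a = 0 := by
    rintro ⟨a, ha⟩
    induction ha using Algebra.adjoin_induction with
    | mem x hx =>
      let y : A := ⟨x, Algebra.subset_adjoin hx⟩
      show KaehlerDifferential.D K A y = 0
      have hy : IsSeparable K y := by
        have := hs x hx
        rwa [IsSeparable, ← minpoly.algHom_eq A.val Subtype.val_injective y]
      obtain ⟨p, q, hpq⟩ := hy
      have h1 : aeval y q * aeval y (derivative (minpoly K y)) = 1 := by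
        have := congrArg (aeval y) hpq
        simpa [minpoly.aeval] using this
      have h2 : aeval y (derivative (minpoly K y)) • KaehlerDifferential.D K A y = 0 := by
        rw [← Derivation.map_aeval, minpoly.aeval, map_zero]
      rw [← one_smul A (KaehlerDifferential.D K A y), ← h1, mul_smul, h2, smul_zero]
    | algebraMap r => exact Derivation.map_algebraMap _ r
    | add x y hx hy ihx ihy =>
      show KaehlerDifferential.D K A (⟨x, hx⟩ + ⟨y, hy⟩ : A) = 0
      rw [map_add, ihx, ihy, add_zero]
    | mul x y hx hy ihx ihy =>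
      show KaehlerDifferential.D K A (⟨x, hx⟩ * ⟨y, hy⟩ : A) = 0
      rw [Derivation.leibniz, ihx, ihy, smul_zero, smul_zero, add_zero]
  refine ⟨?_⟩
  rw [← Submodule.subsingleton_iff A, ← subsingleton_iff_bot_eq_top, eq_comm, eq_bot_iff,
    ← KaehlerDifferential.span_range_derivation K A, Submodule.span_le]
  rintro _ ⟨x, rfl⟩
  exact hgen x

lemma etale_adjoin_finset (s : Finset S) (hs : ∀ x ∈ s, IsSeparable K x) :
    Algebra.Etale K (Algebra.adjoin K (s : Set S)) := by
  have : Algebra.FiniteType K (Algebra.adjoin K (s : Set S)) :=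
    (Subalgebra.fg_iff_finiteType _).mp ⟨s, rfl⟩
  have := formallyUnramified_adjoin (K := K) (s : Set S) hs
  have : Algebra.FormallyEtale K (Algebra.adjoin K (s : Set S)) :=
    Algebra.FormallyEtale.of_formallyUnramified_of_field K _
  exact ⟨this, Algebra.FinitePresentation.of_finiteType.mp inferInstance⟩

lemma vnr_of_weaklyEtale [Algebra.WeaklyEtale K S] (x : S) : ∃ y, x * x * y = x :=
  vnr_of_all_flat (fun M _ _ => by
    let _ : Module K M := Module.compHom M (algebraMap K S)
    have : IsScalarTower K S M :=
      .of_algebraMap_smul fun r m => rfl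
    exact FlatMor67.flat_of_flat_lmul' (Algebra.WeaklyEtale.flat_lmul' K S) M) x

/-- Quotients of weakly étale algebras over a field are weakly étale. -/
lemma weaklyEtale_quotient [Algebra.WeaklyEtale K S] (I : Ideal S) :
    Algebra.WeaklyEtale K (S ⧸ I) := by
  refine { flat := inferInstance, flat_lmul' := ?_ }
  let π : S ⊗[K] S →ₐ[K] (S ⧸ I) ⊗[K] (S ⧸ I) :=
    Algebra.TensorProduct.map (Ideal.Quotient.mkₐ K I) (Ideal.Quotient.mkₐ K I)
  have hπ : Function.Surjective π :=
    TensorProduct.map_surjective Ideal.Quotient.mk_surjective Ideal.Quotient.mk_surjective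
  refine flat_of_comp_surjective π.toRingHom hπ _ ?_
  have hcomp : (Algebra.TensorProduct.lmul' K (S := S ⧸ I)).toRingHom.comp π.toRingHom =
      (Ideal.Quotient.mk I).comp (Algebra.TensorProduct.lmul' K (S := S)).toRingHom := by
    refine RingHom.ext fun z => ?_
    induction z using TensorProduct.induction_on with
    | zero => simp
    | tmul x y => simp [π]
    | add a b ha hb => simp only [map_add, ha, hb]
  rw [hcomp]
  refine RingHom.Flat.comp (Algebra.WeaklyEtale.flat_lmul' K S) ?_
  rw [← Ideal.Quotient.algebraMap_eq, RingHom.flat_algebraMap_iff]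
  exact FlatMor67.flat_of_vonNeumannRegular (vnr_of_weaklyEtale (K := K)) _

/-- Every element of a weakly étale algebra over a field is separable. -/
theorem isSeparable_of_weaklyEtale [Algebra.WeaklyEtale K S] (x : S) : IsSeparable K x := by
  classical
  have : IsReduced S := FlatMor67.isReduced_of_weaklyEtale K S
  choose y hy using fun a : S => vnr_of_weaklyEtale (K := K) a
  let T : Set K[X] := {f | f.Monic ∧ Irreducible f ∧ f.Separable}
  have htop : Ideal.span (Set.range fun f : T => 1 - aeval x (f : K[X]) * y (aeval x (f : K[X]))) = ⊤ := by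
    by_contra hne
    obtain ⟨m, hm, hle⟩ := Ideal.exists_le_maximal _ hne
    let _ := Ideal.Quotient.field m
    have := weaklyEtale_quotient (K := K) m
    have hsep := Groth.Agent.FlatCrit65.isSeparable_of_weaklyEtale
      (K := K) (Ideal.Quotient.mk m x)
    have hint : IsIntegral K (Ideal.Quotient.mk m x) :=
      (Groth.Agent.FlatCrit65.isAlgebraic_of_weaklyEtale _).isIntegral
    let f : T := ⟨minpoly K (Ideal.Quotient.mk m x),
      minpoly.monic hint, minpoly.irreducible hint, hsep⟩
    have hfx : aeval x (f : K[X]) ∈ m := by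
      rw [← Ideal.Quotient.eq_zero_iff_mem, ← Ideal.Quotient.mkₐ_eq_mk K,
        ← aeval_algHom_apply]
      exact minpoly.aeval K _
    have h1 := m.add_mem (hle (Ideal.subset_span ⟨f, rfl⟩)) (m.mul_mem_right (y (aeval x (f : K[X]))) hfx)
    rw [sub_add_cancel] at h1
    exact hm.ne_top (m.eq_top_iff_one.mpr h1)
  obtain ⟨c, hc⟩ := (Finsupp.mem_span_range_iff_exists_finsupp).mp
    (htop ▸ Submodule.mem_top : (1 : S) ∈ Ideal.span _)
  let F : K[X] := ∏ f ∈ c.support, (f : K[X])
  have hF : F.Separable := by
    refine Polynomial.separable_prod' (fun f hf g hg hne => ?_) fun f _ => f.2.2.2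
    refine (f.2.2.1.coprime_iff_not_dvd).mpr fun hdvd => hne (Subtype.ext ?_)
    exact eq_of_monic_of_associated f.2.1 g.2.1 (f.2.2.1.associated_of_dvd g.2.2.1 hdvd)
  have hz : aeval x F = 0 := by
    have hann : ∀ f ∈ c.support, aeval x F * (1 - aeval x (f : K[X]) * y (aeval x (f : K[X]))) = 0 := by
      intro f hf
      simp only [F]
      rw [← Finset.mul_prod_erase _ _ hf, map_mul, mul_right_comm, mul_sub, mul_one, ← mul_assoc,
        hy, sub_self, zero_mul]
    calc aeval x F = aeval x F * 1 := (mul_one _).symm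
      _ = 0 := by
        rw [← hc, Finsupp.sum, Finset.mul_sum]
        refine Finset.sum_eq_zero fun f hf => ?_
        rw [smul_eq_mul, mul_left_comm, hann f hf, mul_zero]
  exact Polynomial.Separable.of_dvd hF (minpoly.dvd K x hz)

/-- An algebra over a field all of whose elements are separable is weakly étale. -/
theorem weaklyEtale_of_forall_isSeparable (h : ∀ x : S, IsSeparable K x) :
    Algebra.WeaklyEtale K S := by
  classical
  refine { flat := inferInstance, flat_lmul' := ?_ }
  set μ := (Algebra.TensorProduct.lmul' K (S := S)).toRingHom with hμ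
  have hs : Function.Surjective μ := fun b => ⟨b ⊗ₜ 1, by simp [hμ]⟩
  have hpure : (RingHom.ker μ).Pure := by
    refine Ideal.Pure.of_inf_eq_mul _ fun J _ => le_antisymm (fun z hz => ?_) Ideal.mul_le_inf
    obtain ⟨s, hs⟩ := TensorProduct.exists_finset (z : S ⊗[K] S)
    let t : Finset S := s.image Prod.fst ∪ s.image Prod.snd
    let A := Algebra.adjoin K (t : Set S)
    have : Algebra.Etale K A := etale_adjoin_finset t fun x _ => h x
    let Φ : A ⊗[K] A →ₐ[K] S ⊗[K] S := Algebra.TensorProduct.map A.val A.val
    have hμΦ : ∀ w, μ (Φ w) = A.val (Algebra.TensorProduct.lmul' K w) := by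
      intro w
      induction w using TensorProduct.induction_on with
      | zero => simp
      | tmul a b => simp [hμ, Φ]
      | add a b ha hb => simp only [map_add, ha, hb]
    let w : A ⊗[K] A := ∑ p ∈ s.attach,
      (⟨p.1.1, Algebra.subset_adjoin (Finset.mem_union_left _
        (Finset.mem_image_of_mem _ p.2))⟩ : A) ⊗ₜ
      (⟨p.1.2, Algebra.subset_adjoin (Finset.mem_union_right _
        (Finset.mem_image_of_mem _ p.2))⟩ : A)
    have hw : Φ w = z := by
      rw [hs, map_sum, ← s.sum_attach]
      rfl
    have hwker : w ∈ RingHom.ker (Algebra.TensorProduct.lmul' K (S := A)).toRingHom := by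
      rw [RingHom.mem_ker]
      have h0 : μ z = 0 := hz.1
      rw [← hw, hμΦ] at h0
      exact Subtype.val_injective h0
    have := FlatMor67.pure_ker_lmul' (Algebra.WeaklyEtale.flat_lmul' K A)
    obtain ⟨e, he, hwe⟩ := Ideal.exists_eq_mul_of_pure hwker
    have hΦe : Φ e ∈ RingHom.ker μ := by
      rw [RingHom.mem_ker, hμΦ, show Algebra.TensorProduct.lmul' K e = 0 from he, map_zero]
    have : z = Φ e * z := by rw [← hw, ← map_mul, mul_comm, ← hwe]
    rw [this]
    exact Ideal.mul_mem_mul hΦe hz.2
  show μ.Flat
  let _ := μ.toAlgebra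
  let e : ((S ⊗[K] S) ⧸ RingHom.ker μ) ≃ₗ[S ⊗[K] S] S :=
    (Ideal.quotientKerAlgEquivOfSurjective (f := Algebra.ofId (S ⊗[K] S) S) hs).toLinearEquiv
  exact Module.Flat.of_linearEquiv e.symm

theorem weaklyEtale_iff_forall_isSeparable :
    Algebra.WeaklyEtale K S ↔ ∀ x : S, IsSeparable K x :=
  ⟨fun _ x => isSeparable_of_weaklyEtale x, weaklyEtale_of_forall_isSeparable⟩

lemma isSeparable_coe_iff (A : Subalgebra K S) (x : A) :
    IsSeparable K (x : S) ↔ IsSeparable K x := by
  rw [IsSeparable, IsSeparable, ← minpoly.algHom_eq A.val Subtype.val_injective x]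
  rfl

lemma isSeparable_of_mem_adjoin {s : Finset S} (hs : ∀ x ∈ s, IsSeparable K x) {z : S}
    (hz : z ∈ Algebra.adjoin K (s : Set S)) : IsSeparable K z := by
  have := etale_adjoin_finset s hs
  exact (isSeparable_coe_iff _ ⟨z, hz⟩).mpr (isSeparable_of_weaklyEtale _)

variable (K S) in
/-- The subalgebra of separable elements. -/
def separableElements : Subalgebra K S where
  carrier := {x | IsSeparable K x}
  mul_mem' {a b} ha hb := by
    classical
    exact isSeparable_of_mem_adjoin (s := {a, b}) (by simp [Set.mem_ofPred_eq.mp ha, Set.mem_ofPred_eq.mp hb])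
      (mul_mem (Algebra.subset_adjoin (by simp)) (Algebra.subset_adjoin (by simp)))
  add_mem' {a b} ha hb := by
    classical
    exact isSeparable_of_mem_adjoin (s := {a, b}) (by simp [Set.mem_ofPred_eq.mp ha, Set.mem_ofPred_eq.mp hb])
      (add_mem (Algebra.subset_adjoin (by simp)) (Algebra.subset_adjoin (by simp)))
  algebraMap_mem' r := by
    classical
    exact isSeparable_of_mem_adjoin (s := (∅ : Finset S)) (by simp) (algebraMap_mem _ r)

lemma mem_separableElements {x : S} : x ∈ separableElements K S ↔ IsSeparable K x := Iff.rfl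

variable (K S) in
theorem maxWeaklyEtale_eq : EtAlgD.maxWeaklyEtale K S = separableElements K S := by
  refine le_antisymm (sSup_le fun A hA x hx => ?_) (le_sSup ?_)
  · have : Algebra.WeaklyEtale K A := hA
    exact (isSeparable_coe_iff A ⟨x, hx⟩).mpr (isSeparable_of_weaklyEtale _)
  · exact weaklyEtale_of_forall_isSeparable fun x => (isSeparable_coe_iff _ x).mp x.2

theorem mem_maxWeaklyEtale_iff {x : S} : x ∈ EtAlgD.maxWeaklyEtale K S ↔ IsSeparable K x := by
  rw [maxWeaklyEtale_eq]; rfl

theorem weaklyEtale_maxWeaklyEtale : Algebra.WeaklyEtale K (EtAlgD.maxWeaklyEtale K S) :=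
  weaklyEtale_of_forall_isSeparable fun x =>
    (isSeparable_coe_iff _ x).mp (mem_maxWeaklyEtale_iff.mp x.2)

/-- A separable element which is nilpotent vanishes. -/
lemma eq_zero_of_isSeparable_of_isNilpotent {x : S} (hx : IsSeparable K x) (hn : IsNilpotent x) :
    x = 0 := by
  classical
  have := etale_adjoin_finset {x} (by simpa using hx)
  have : IsReduced (Algebra.adjoin K (({x} : Finset S) : Set S)) :=
    FlatMor67.isReduced_of_weaklyEtale K _
  have hmem : x ∈ Algebra.adjoin K (({x} : Finset S) : Set S) := Algebra.subset_adjoin (by simp)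
  obtain ⟨n, hn⟩ := hn
  have : (⟨x, hmem⟩ : Algebra.adjoin K (({x} : Finset S) : Set S)) = 0 :=
    IsReduced.eq_zero _ ⟨n, Subtype.ext hn⟩
  exact congrArg Subtype.val this

theorem bijOn_maxWeaklyEtale_quotient :
    Set.BijOn (Ideal.Quotient.mkₐ K (nilradical S)) (EtAlgD.maxWeaklyEtale K S)
      (EtAlgD.maxWeaklyEtale K (S ⧸ nilradical S)) := by
  refine ⟨fun x hx => ?_, fun a ha b hb hab => ?_, fun z hz => ?_⟩
  · have hx := mem_maxWeaklyEtale_iff.mp hx
    refine mem_maxWeaklyEtale_iff.mpr (Polynomial.Separable.of_dvd hx (minpoly.dvd K _ ?_))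
    rw [aeval_algHom_apply, minpoly.aeval, map_zero]
  · refine sub_eq_zero.mp (eq_zero_of_isSeparable_of_isNilpotent (K := K)
      (mem_maxWeaklyEtale_iff.mp (sub_mem ha hb)) (mem_nilradical.mp ?_))
    exact Ideal.Quotient.eq.mp hab
  · obtain ⟨y, rfl⟩ := Ideal.Quotient.mk_surjective z
    have hz := mem_maxWeaklyEtale_iff.mp hz
    set f := minpoly K (Ideal.Quotient.mk (nilradical S) y) with hf
    have hnil : IsNilpotent (aeval y f) := by
      rw [← mem_nilradical, ← Ideal.Quotient.eq_zero_iff_mem, ← Ideal.Quotient.mkₐ_eq_mk K,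
        ← aeval_algHom_apply]
      exact minpoly.aeval K _
    have hz' : f.Separable := hz
    obtain ⟨p, q, hpq⟩ := hz
    have hunit : IsUnit (aeval y (derivative f)) := by
      have h1 := congrArg (aeval y) hpq
      rw [map_add, map_mul, map_mul, map_one] at h1
      have : IsUnit (aeval y q * aeval y (derivative f)) := by
        rw [show aeval y q * aeval y (derivative f) = 1 - aeval y p * aeval y f by
          linear_combination h1]
        exact (Commute.isNilpotent_mul_left (Commute.all _ _) hnil).isUnit_one_sub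
      exact (IsUnit.mul_iff.mp this).2
    obtain ⟨r, ⟨hr, hroot⟩, -⟩ := existsUnique_nilpotent_sub_and_aeval_eq_zero hnil hunit
    refine ⟨r, mem_maxWeaklyEtale_iff.mpr
      (Polynomial.Separable.of_dvd hz' (minpoly.dvd K r hroot)), ?_⟩
    exact (Ideal.Quotient.eq.mpr (mem_nilradical.mpr hr)).symm

theorem isField_maxWeaklyEtale (he : ∀ e : S, IsIdempotentElem e → e = 0 ∨ e = 1) [Nontrivial S] :
    IsField (EtAlgD.maxWeaklyEtale K S) := by
  have := weaklyEtale_maxWeaklyEtale (K := K) (S := S)
  refine ⟨exists_pair_ne _, mul_comm, fun {a} ha => ?_⟩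
  obtain ⟨y, hy⟩ := vnr_of_weaklyEtale (K := K) a
  rcases he ((a * y : EtAlgD.maxWeaklyEtale K S) : S) (congrArg Subtype.val
    (show (a * y) * (a * y) = a * y by linear_combination y * hy)) with h | h
  · refine absurd ?_ ha
    have : a * y = 0 := Subtype.ext h
    rw [← hy, mul_assoc, this, mul_zero]
  · exact ⟨y, Subtype.ext h⟩

end Groth.Agent.WE24
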