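import Groth.Prelude.Def_DRing2
import Groth.Agent.TorMod7.Basic
import Groth.Agent.Glue24.SurjTor
import Groth.Agent.FlatMor67.FlatMul

/-!
# Tor dimension along weakly étale maps
-/

universe u

open CategoryTheory Limits MonoidalCategory TensorProduct

namespace Groth.Agent.WE24

variable {A : Type u} [CommRing A]

theorem flat_ker {F Y : Type u} [AddCommGroup F] [Module A F] [AddCommGroup Y] [Module A Y]
    [Module.Flat A F] [Module.Flat A Y] (p : F →ₗ[A] Y) (hp : Function.Surjective p) :
    Module.Flat A (LinearMap.ker p) := by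
  rw [Module.Flat.iff_lTensor_preserves_injective_linearMap]
  intro N N' _ _ _ _ f hf
  let i := (LinearMap.ker p).subtype
  have hinj : Function.Injective (i.rTensor N) := by
    have h := Glue24.lTensor_injective_of_flat_coker (N := N) i p (Submodule.subtype_injective _)
      (LinearMap.exact_subtype_ker_map p) hp
    intro x y hxy
    apply (TensorProduct.comm A (LinearMap.ker p) N).injective
    apply h
    have key : ∀ z, i.lTensor N (TensorProduct.comm A _ N z) =
        TensorProduct.comm A F N (i.rTensor N z) := by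
      intro z
      induction z using TensorProduct.induction_on with
      | zero => simp
      | tmul a b => simp
      | add a b ha hb => simp only [map_add, ha, hb]
    rw [key, key, hxy]
  intro x y hxy
  apply hinj
  apply Module.Flat.lTensor_preserves_injective_linearMap (M := F) f hf
  rw [← LinearMap.comp_apply, ← LinearMap.comp_apply, LinearMap.lTensor_comp_rTensor,
    ← LinearMap.rTensor_comp_lTensor, LinearMap.comp_apply, LinearMap.comp_apply, hxy]

theorem isZero_tor_one_of_flat (N : ModuleCat.{u} A) {F Y : Type u} [AddCommGroup Y] [Module A Y]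
    [AddCommGroup F] [Module A F] [Module.Projective A F] [Module.Flat A Y] (p : F →ₗ[A] Y)
    (hp : Function.Surjective p) :
    IsZero (((Tor (ModuleCat.{u} A) 1).obj N).obj (ModuleCat.of A Y)) :=
  (TorMod7.isZero_tor_one_iff_of_surjective N p hp).mpr
    (Glue24.lTensor_injective_of_flat_coker (LinearMap.ker p).subtype p
      (Submodule.subtype_injective _) (LinearMap.exact_subtype_ker_map p) hp)

theorem isZero_tor_of_flat (n : ℕ) : ∀ (N : ModuleCat.{u} A) (Y : Type u) [AddCommGroup Y]
    [Module A Y] [Module.Flat A Y],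
    IsZero (((Tor (ModuleCat.{u} A) (n + 1)).obj N).obj (ModuleCat.of A Y)) := by
  induction n with
  | zero =>
    intro N Y _ _ _
    exact isZero_tor_one_of_flat N (Finsupp.linearCombination A (id : Y → Y))
      (fun y => ⟨Finsupp.single y 1, by simp⟩)
  | succ n ih =>
    intro N Y _ _ _
    let p : (Y →₀ A) →ₗ[A] Y := Finsupp.linearCombination A id
    have hp : Function.Surjective p := fun y => ⟨Finsupp.single y 1, by simp [p]⟩
    have := flat_ker p hp
    exact TorMod7.isZero_tor_succ N (TorMod7.sesOfSurjective p hp)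
      ((IsProjective.iff_projective (R := A) (P := Y →₀ A)).1 inferInstance) n
      (ih N (LinearMap.ker p))

theorem flat_of_isZero_tor_one_aux {F : Type u} [AddCommGroup F] [Module A F] [Module.Projective A F]
    (Y : Type u) [AddCommGroup Y] [Module A Y] (p : F →ₗ[A] Y) (hp : Function.Surjective p)
    (h : ∀ N : ModuleCat.{u} A, IsZero (((Tor (ModuleCat.{u} A) 1).obj N).obj (ModuleCat.of A Y))) :
    Module.Flat A Y := by
  let i := (LinearMap.ker p).subtype
  have hinj : ∀ (M : Type u) [AddCommGroup M] [Module A M], Function.Injective (i.lTensor M) :=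
    fun M _ _ => (TorMod7.isZero_tor_one_iff_of_surjective (ModuleCat.of A M) p hp).mp (h _)
  rw [Module.Flat.iff_rTensor_injective']
  intro I
  have hex := LinearMap.exact_subtype_ker_map p
  rw [← LinearMap.ker_eq_bot, LinearMap.ker_eq_bot']
  intro x hx
  obtain ⟨w, rfl⟩ := LinearMap.lTensor_surjective I hp x
  let m := Submodule.mkQ I
  have hw : p.lTensor A (I.subtype.rTensor F w) = 0 := by
    rw [← LinearMap.comp_apply, LinearMap.lTensor_comp_rTensor, ← LinearMap.rTensor_comp_lTensor,
      LinearMap.comp_apply, hx]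
  obtain ⟨z, hz⟩ := (lTensor_exact (M := LinearMap.ker p) (N := F) (P := Y) (f := i) (g := p)
    A hex hp _).mp hw
  have hz0 : m.rTensor (LinearMap.ker p) z = 0 := by
    apply hinj (A ⧸ I)
    rw [map_zero, ← LinearMap.comp_apply, LinearMap.lTensor_comp_rTensor,
      ← LinearMap.rTensor_comp_lTensor, LinearMap.comp_apply, hz]
    exact (rTensor_exact F (LinearMap.exact_subtype_mkQ I)
      I.mkQ_surjective).apply_apply_eq_zero w
  obtain ⟨w', rfl⟩ := (rTensor_exact (M := I) (N := A) (P := A ⧸ I) (f := I.subtype) (g := m)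
    (LinearMap.ker p) (LinearMap.exact_subtype_mkQ I) I.mkQ_surjective z).mp hz0
  have : w = i.lTensor I w' := by
    apply Module.Flat.rTensor_preserves_injective_linearMap (M := F) I.subtype
      I.injective_subtype
    rw [← hz, ← LinearMap.comp_apply, ← LinearMap.comp_apply, LinearMap.lTensor_comp_rTensor,
      LinearMap.rTensor_comp_lTensor]
  rw [this]
  exact (lTensor_exact (M := LinearMap.ker p) (N := F) (P := Y) (f := i) (g := p)
    I hex hp).apply_apply_eq_zero w'

theorem flat_of_isZero_tor_one (Y : Type u) [AddCommGroup Y] [Module A Y]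
    (h : ∀ N : ModuleCat.{u} A, IsZero (((Tor (ModuleCat.{u} A) 1).obj N).obj (ModuleCat.of A Y))) :
    Module.Flat A Y :=
  flat_of_isZero_tor_one_aux Y (Finsupp.linearCombination A (id : Y → Y))
    (fun y => ⟨Finsupp.single y 1, by simp⟩) h

/-- Tor-dimension bounds ascend along weakly étale maps. -/
theorem isZero_tor_ascends (B : Type u) [CommRing B] [Algebra A B] [Algebra.WeaklyEtale A B] (d : ℕ) :
    ∀ (N' : Type u) [AddCommGroup N'] [Module B N'] [Module A N'] [IsScalarTower A B N'],
      (∀ M : ModuleCat.{u} A,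
        IsZero (((Tor (ModuleCat.{u} A) (d + 1)).obj M).obj (ModuleCat.of A N'))) →
      ∀ (N : ModuleCat.{u} B) (q : ℕ),
        IsZero (((Tor (ModuleCat.{u} B) (d + q + 1)).obj N).obj (ModuleCat.of B N')) := by
  induction d with
  | zero =>
    intro N' _ _ _ _ h N q
    have := flat_of_isZero_tor_one N' h
    have : Module.Flat B N' :=
      FlatMor67.flat_of_flat_lmul' (Algebra.WeaklyEtale.flat_lmul' A B) N'
    rw [Nat.zero_add]
    exact isZero_tor_of_flat q N N'
  | succ d ih =>
    intro N' _ _ _ _ h N q
    let p : (N' →₀ B) →ₗ[B] N' := Finsupp.linearCombination B id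
    have hp : Function.Surjective p := fun y => ⟨Finsupp.single y 1, by simp [p]⟩
    have : Module.Flat A (N' →₀ B) := Module.Flat.trans A B _
    have hK : ∀ M : ModuleCat.{u} A, IsZero (((Tor (ModuleCat.{u} A) (d + 1)).obj M).obj
        (ModuleCat.of A (LinearMap.ker p))) := by
      intro M
      let pA := p.restrictScalars A
      let G := (tensoringLeft (ModuleCat.{u} A)).obj M
      let S := TorMod7.sesOfSurjective pA hp
      have hepi : Epi (TorMod7.leftDerivedδ G S (d + 1)) :=
        (TorMod7.exact₁ G S (d + 1)).epi_f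
          ((isZero_tor_of_flat (A := A) d M (N' →₀ B)).eq_of_tgt _ _)
      exact @IsZero.of_epi _ _ _ _ _ (TorMod7.leftDerivedδ G S (d + 1)) hepi (h M)
    have := TorMod7.isZero_tor_succ N (TorMod7.sesOfSurjective p hp)
      ((IsProjective.iff_projective (R := B) (P := N' →₀ B)).1 inferInstance) (d + q)
      (ih (LinearMap.ker p) hK N q)
    rw [show d + 1 + q + 1 = d + q + 2 by omega]
    exact this

theorem hasTorDimLE_ascends (B : Type u) [CommRing B] [Algebra A B] [Algebra.WeaklyEtale A B] (d : ℕ)
    (hA : ∀ (M : Type u) [AddCommGroup M] [Module A M], DRing.HasTorDimLE A d M)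
    (N : Type u) [AddCommGroup N] [Module B N] : DRing.HasTorDimLE B d N := by
  intro N' _ _ p hp
  letI : Module A N' := Module.compHom N' (algebraMap A B)
  haveI : IsScalarTower A B N' := IsScalarTower.of_algebraMap_smul fun _ _ => rfl
  obtain ⟨q, rfl⟩ : ∃ q, p = d + q + 1 := ⟨p - d - 1, by omega⟩
  refine ModuleCat.isZero_iff_subsingleton.mp (isZero_tor_ascends (A := A) B d N' (fun M => ?_) _ q)
  exact ModuleCat.isZero_iff_subsingleton.mpr (hA M N' (d + 1) (Nat.lt_succ_self d))

end Groth.Agent.WE24
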